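import Groth.Agent.WeilLib.Zeta
import Mathlib.RingTheory.PowerSeries.Trunc
import Mathlib.NumberTheory.Divisors

/-!
# Formal identities of zeta functions
-/

set_option backward.isDefEq.respectTransparency false
set_option backward.isDefEq.respectTransparency.types false

universe u v

open PowerSeries WeilLib

namespace ZetaFormalLib

variable {K : Type v} [Field K] [CharZero K]

/-- The logarithmic derivative of `1 - c X^r`. -/
noncomputable def T (c : K) (r : ℕ) : K⟦X⟧ :=
  mk fun m => if r ∣ m ∧ m ≠ 0 then -((r : K) * c ^ (m / r)) else 0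

theorem X_mul_derivative_one_sub (c : K) {r : ℕ} (hr : r ≠ 0) :
    X * derivative K (1 - C c * X ^ r) = (1 - C c * X ^ r) * T c r := by
  have hD : X * derivative K (1 - C c * X ^ r : K⟦X⟧) = -(C ((r : K) * c) * X ^ r) := by
    obtain ⟨s, rfl⟩ := Nat.exists_eq_succ_of_ne_zero hr
    rw [map_sub, Derivation.leibniz, derivative_C, Derivation.leibniz_pow, derivative_X,
      Derivation.map_one_eq_zero, smul_zero, add_zero, map_mul, map_natCast]
    simp only [smul_eq_mul, nsmul_eq_mul, Nat.succ_sub_one, pow_succ]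
    ring
  rw [hD, sub_mul, one_mul, mul_assoc]
  ext m
  rw [map_neg, map_sub, coeff_C_mul, coeff_C_mul, coeff_X_pow, coeff_X_pow_mul', T, coeff_mk]
  rcases lt_trichotomy m r with h | rfl | h
  · rw [if_neg h.ne, if_neg (by omega : ¬ r ≤ m), if_neg]
    · simp
    · rintro ⟨hd, h0⟩
      exact absurd (Nat.le_of_dvd (Nat.pos_of_ne_zero h0) hd) (by omega)
  · rw [if_pos rfl, if_pos le_rfl, if_pos ⟨dvd_rfl, hr⟩, coeff_mk, Nat.sub_self, if_neg (by simp),
      Nat.div_self (Nat.pos_of_ne_zero hr)]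
    simp
  · rw [if_neg h.ne', if_pos h.le, coeff_mk]
    by_cases hd : r ∣ m
    · rw [if_pos ⟨hd, by omega⟩, if_pos ⟨Nat.dvd_sub hd dvd_rfl, by omega⟩]
      obtain ⟨q, rfl⟩ := hd
      rw [show r * q - r = r * (q - 1) by rw [Nat.mul_sub, mul_one], Nat.mul_div_cancel_left _ (Nat.pos_of_ne_zero hr),
        Nat.mul_div_cancel_left _ (Nat.pos_of_ne_zero hr)]
      obtain ⟨q', rfl⟩ : ∃ q', q = q' + 1 := ⟨q - 1, by
        rcases Nat.eq_zero_or_pos q with rfl | hq <;> [simp at h; omega]⟩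
      simp [pow_succ]; ring
    · rw [if_neg fun h' => hd h'.1, if_neg]
      · simp
      · rintro ⟨hd', -⟩
        exact hd (by have := Nat.dvd_add hd' (dvd_refl r); rwa [Nat.sub_add_cancel h.le] at this)

theorem X_mul_derivative_pow {f a : K⟦X⟧} (h : X * derivative K f = f * a) (n : ℕ) :
    X * derivative K (f ^ n) = f ^ n * (n • a) := by
  induction n with
  | zero => simp
  | succ n ih =>
    rw [pow_succ, X_mul_derivative_mul ih h, succ_nsmul]

/-- A series whose logarithmic derivative starts in degree `> n` is `1` up to degree `n`. -/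
theorem trunc_eq_one {G c : K⟦X⟧} (n : ℕ) (h : X * derivative K G = G * c) (h0 : constantCoeff G = 1)
    (hc : ∀ m ≤ n, coeff m c = 0) : trunc (n + 1) G = 1 := by
  have hG : ∀ m, 1 ≤ m → m ≤ n → coeff m G = 0 := by
    intro m h1 h2
    obtain ⟨m, rfl⟩ : ∃ m', m = m' + 1 := ⟨m - 1, by omega⟩
    have hm := congrArg (coeff (m + 1)) h
    rw [coeff_succ_X_mul, coeff_derivative, coeff_mul] at hm
    have hz : ∑ p ∈ Finset.antidiagonal (m + 1), coeff p.1 G * coeff p.2 c = 0 :=
      Finset.sum_eq_zero fun p hp => by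
        rw [Finset.mem_antidiagonal] at hp
        rw [hc p.2 (by omega), mul_zero]
    rw [hz] at hm
    exact (mul_eq_zero.1 hm).resolve_right (by exact_mod_cast m.succ_ne_zero)
  ext m
  rw [coeff_trunc, Polynomial.coeff_one]
  rcases Nat.eq_zero_or_pos m with rfl | hm
  · simpa using h0
  · rw [if_neg hm.ne']
    split
    · exact hG m hm (by omega)
    · rfl

section Zeta

open AlgebraicGeometry

variable {k : Type u} [Field k] {X' : Scheme.{u}} (f : X' ⟶ Spec (CommRingCat.of k))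

theorem euler_trunc (n : ℕ) :
    trunc (n + 1) (Zeta.zetaFun f * ∏ r ∈ Finset.Icc 1 n, (1 - PowerSeries.X ^ r) ^ Zeta.degCount f r) = 1 := by
  have hr : ∀ r ∈ Finset.Icc 1 n, PowerSeries.X * derivative ℚ ((1 - PowerSeries.X ^ r : ℚ⟦X⟧) ^ Zeta.degCount f r) =
      (1 - PowerSeries.X ^ r) ^ Zeta.degCount f r * (Zeta.degCount f r • T (1 : ℚ) r) := fun r hr => by
    refine X_mul_derivative_pow ?_ _
    have h := X_mul_derivative_one_sub (1 : ℚ) (r := r) (by have := (Finset.mem_Icc.1 hr).1; omega)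
    simpa using h
  refine trunc_eq_one n (X_mul_derivative_mul (X_mul_derivative_zetaFun f) (X_mul_derivative_prod _ hr)) ?_ ?_
  · rw [map_mul, constantCoeff_zetaFun, one_mul, map_prod]
    refine Finset.prod_eq_one fun r hr => ?_
    have h1 : r ≠ 0 := by have := (Finset.mem_Icc.1 hr).1; omega
    simp [h1]
  · intro m hm
    rw [map_add, coeff_mk, map_sum]
    rcases Nat.eq_zero_or_pos m with rfl | hm0
    · simp [Zeta.nPts, T]
    have hterm : ∀ r ∈ Finset.Icc 1 n, coeff m (Zeta.degCount f r • T (1 : ℚ) r) =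
        if r ∣ m then -((r : ℚ) * Zeta.degCount f r) else 0 := fun r _ => by
      rw [map_nsmul, T, coeff_mk]
      by_cases hd : r ∣ m
      · rw [if_pos ⟨hd, hm0.ne'⟩, if_pos hd, one_pow, mul_one, nsmul_eq_mul]; ring
      · rw [if_neg fun h => hd h.1, if_neg hd, smul_zero]
    rw [Finset.sum_congr rfl hterm, ← Finset.sum_filter,
      show (Finset.Icc 1 n).filter (fun r => r ∣ m) = m.divisors from ?_, Zeta.nPts]
    · push_cast
      rw [← Finset.sum_add_distrib]
      exact Finset.sum_eq_zero fun r _ => by ring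
    · ext r
      simp only [Finset.mem_filter, Finset.mem_Icc, Nat.mem_divisors]
      exact ⟨fun h => ⟨h.2, hm0.ne'⟩, fun h => ⟨⟨Nat.pos_of_dvd_of_pos h.1 hm0, (Nat.le_of_dvd hm0 h.1).trans hm⟩, h.1⟩⟩

theorem coeff_int (n : ℕ) : ∃ z : ℤ, coeff n (Zeta.zetaFun f) = (z : ℚ) := by
  let P : ℤ⟦X⟧ := ∏ r ∈ Finset.Icc 1 n, (1 - PowerSeries.X ^ r) ^ Zeta.degCount f r
  have hP0 : constantCoeff P = 1 := by
    rw [map_prod]
    refine Finset.prod_eq_one fun r hr => ?_
    have h1 : r ≠ 0 := by have := (Finset.mem_Icc.1 hr).1; omega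
    simp [h1]
  obtain ⟨Q, hQ⟩ := isUnit_iff_exists_inv.1 (isUnit_iff_constantCoeff.2 (hP0 ▸ isUnit_one) : IsUnit P)
  let φ := PowerSeries.map (Int.castRingHom ℚ)
  have hP : φ P = ∏ r ∈ Finset.Icc 1 n, (1 - PowerSeries.X ^ r) ^ Zeta.degCount f r := by
    simp [φ, P]
  have h := euler_trunc f n
  rw [← hP] at h
  refine ⟨coeff n Q, ?_⟩
  have hG : ∀ m ≤ n, coeff m (Zeta.zetaFun f * φ P) = if m = 0 then 1 else 0 := fun m hm => by
    have := congrArg (fun p => Polynomial.coeff p m) h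
    simpa [coeff_trunc, Nat.lt_succ_iff, hm, Polynomial.coeff_one] using this
  have hPQ : φ P * φ Q = 1 := by rw [← map_mul, hQ, map_one]
  calc coeff n (Zeta.zetaFun f) = coeff n ((Zeta.zetaFun f * φ P) * φ Q) := by rw [mul_assoc, hPQ, mul_one]
    _ = coeff n (φ Q) := by
      rw [coeff_mul, Finset.sum_eq_single (0, n)]
      · rw [hG 0 (Nat.zero_le _), if_pos rfl, one_mul]
      · intro p hp hne
        rw [Finset.mem_antidiagonal] at hp
        have : p.1 ≠ 0 := fun h0 => hne (Prod.ext h0 (by show p.2 = n; omega))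
        rw [hG p.1 (by omega), if_neg this, zero_mul]
      · intro hn; exact absurd (Finset.mem_antidiagonal.2 (zero_add n)) hn
    _ = _ := by simp [φ]

/-- Additive point counts give multiplicative zeta functions. -/
theorem zetaFun_eq_prod {ι : Type*} (s : Finset ι) {Y : ι → Scheme.{u}} (g : ∀ i, Y i ⟶ Spec (CommRingCat.of k))
    (h : ∀ m ≠ 0, Zeta.nPts f m = ∑ i ∈ s, Zeta.nPts (g i) m) :
    Zeta.zetaFun f = ∏ i ∈ s, Zeta.zetaFun (g i) := by
  refine eq_of_X_mul_derivative ?_ (X_mul_derivative_zetaFun f) ?_ ?_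
  · simp [Zeta.nPts]
  · have hs := X_mul_derivative_prod s fun i _ => X_mul_derivative_zetaFun (g i)
    rw [hs]
    congr 1
    ext m
    rw [map_sum, coeff_mk]
    rcases Nat.eq_zero_or_pos m with rfl | hm
    · simp [Zeta.nPts]
    · rw [h m hm.ne']
      simp
  · rw [constantCoeff_zetaFun, map_prod, Finset.prod_eq_one fun i _ => constantCoeff_zetaFun (g i)]

/-- From polynomial point counts to the zeta function. -/
theorem zetaFun_of_count {ι : Type*} (s : Finset ι) (q : ι → ℚ) (a b : ι → ℕ)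
    (h : ∀ m ≠ 0, (Zeta.nPts f m : ℚ) = ∑ i ∈ s, ((a i : ℚ) - b i) * q i ^ m) :
    Zeta.zetaFun f * ∏ i ∈ s, (1 - PowerSeries.C (q i) * PowerSeries.X) ^ a i =
      ∏ i ∈ s, (1 - PowerSeries.C (q i) * PowerSeries.X) ^ b i := by
  have hi : ∀ (e : ι → ℕ), ∀ i ∈ s, PowerSeries.X * derivative ℚ ((1 - PowerSeries.C (q i) * PowerSeries.X) ^ e i) =
      (1 - PowerSeries.C (q i) * PowerSeries.X) ^ e i * (e i • T (q i) 1) := fun e i _ => by
    refine X_mul_derivative_pow ?_ _
    simpa using X_mul_derivative_one_sub (q i) one_ne_zero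
  refine eq_of_X_mul_derivative (c := ∑ i ∈ s, b i • T (q i) 1) ?_ ?_ (X_mul_derivative_prod s (hi b)) ?_
  · simp [T, map_sum]
  · rw [X_mul_derivative_mul (X_mul_derivative_zetaFun f) (X_mul_derivative_prod s (hi a))]
    congr 1
    ext m
    rw [map_add, coeff_mk, map_sum, map_sum]
    rcases Nat.eq_zero_or_pos m with rfl | hm
    · simp [Zeta.nPts, T]
    · rw [h m hm.ne', ← Finset.sum_add_distrib]
      refine Finset.sum_congr rfl fun i _ => ?_
      rw [map_nsmul, map_nsmul, T, coeff_mk, if_pos ⟨one_dvd m, hm.ne'⟩, Nat.div_one, nsmul_eq_mul, nsmul_eq_mul]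
      ring
  · rw [map_mul, constantCoeff_zetaFun, one_mul, map_prod, map_prod, Finset.prod_eq_one fun i _ => ?_,
      Finset.prod_eq_one fun i _ => ?_] <;> simp

end Zeta

end ZetaFormalLib
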