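import Groth.Agent.ZetaFormalLib.Basic
import Mathlib.RingTheory.PowerSeries.Expand
import Mathlib.RingTheory.RootsOfUnity.PrimitiveRoots
import Mathlib.Algebra.Field.GeomSum

/-!
# Zeta functions and roots of unity
-/

set_option backward.isDefEq.respectTransparency false
set_option backward.isDefEq.respectTransparency.types false

universe u

open PowerSeries WeilLib

namespace ZetaFormalLib

open AlgebraicGeometry

theorem zetaFun_expand {k k' : Type u} [Field k] [Field k'] {X₁ X₂ : Scheme.{u}}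
    (f₁ : X₁ ⟶ Spec (CommRingCat.of k)) (f₂ : X₂ ⟶ Spec (CommRingCat.of k')) {r : ℕ} (hr : r ≠ 0)
    (h : ∀ m ≠ 0, Zeta.nPts f₂ m = Zeta.nPts f₁ (r * m)) (ξ : ℂ) (hξ : IsPrimitiveRoot ξ r) :
    subst ((PowerSeries.X : ℂ⟦X⟧) ^ r) (map (algebraMap ℚ ℂ) (Zeta.zetaFun f₂)) =
      ∏ i ∈ Finset.range r, rescale (ξ ^ i) (map (algebraMap ℚ ℂ) (Zeta.zetaFun f₁)) := by
  have hD : ∀ {Y : Scheme.{u}} {F : Type u} [Field F] (g : Y ⟶ Spec (CommRingCat.of F)),
      PowerSeries.X * derivative ℂ (map (algebraMap ℚ ℂ) (Zeta.zetaFun g)) =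
        map (algebraMap ℚ ℂ) (Zeta.zetaFun g) * mk fun m => (Zeta.nPts g m : ℂ) := fun g => by
    have e := congrArg (PowerSeries.map (algebraMap ℚ ℂ)) (X_mul_derivative_zetaFun g)
    rw [map_mul, map_mul, PowerSeries.map_X] at e
    convert e using 2
    · ext m; simp [PowerSeries.coeff_derivative]
    · ext m; simp
  have hs : HasSubst ((PowerSeries.X : ℂ⟦X⟧) ^ r) := HasSubst.X_pow hr
  have hL : PowerSeries.X * derivative ℂ (subst ((PowerSeries.X : ℂ⟦X⟧) ^ r) (map (algebraMap ℚ ℂ) (Zeta.zetaFun f₂))) =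
      subst ((PowerSeries.X : ℂ⟦X⟧) ^ r) (map (algebraMap ℚ ℂ) (Zeta.zetaFun f₂)) *
        (r • subst ((PowerSeries.X : ℂ⟦X⟧) ^ r) (mk fun m => (Zeta.nPts f₂ m : ℂ))) := by
    rw [mul_smul_comm, ← subst_mul hs, ← hD f₂, subst_mul hs, subst_X hs, derivative_subst hs, Derivation.leibniz_pow,
      derivative_X]
    obtain ⟨s, rfl⟩ := Nat.exists_eq_succ_of_ne_zero hr
    simp only [nsmul_eq_mul, smul_eq_mul, Nat.succ_sub_one, pow_succ]
    ring
  have hR : ∀ i ∈ Finset.range r, PowerSeries.X * derivative ℂ (rescale (ξ ^ i) (map (algebraMap ℚ ℂ) (Zeta.zetaFun f₁))) =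
      rescale (ξ ^ i) (map (algebraMap ℚ ℂ) (Zeta.zetaFun f₁)) * rescale (ξ ^ i) (mk fun m => (Zeta.nPts f₁ m : ℂ)) := fun i _ => by
    rw [← map_mul, ← hD f₁]
    ext m
    rcases m with _ | m
    · simp
    · simp only [coeff_succ_X_mul, coeff_derivative, coeff_rescale]
      ring
  refine eq_of_X_mul_derivative ?_ hL ((X_mul_derivative_prod _ hR).trans ?_) ?_
  · rw [map_nsmul, ← expand_apply r hr, ← coeff_zero_eq_constantCoeff_apply, coeff_expand, if_pos (dvd_zero r)]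
    simp [Zeta.nPts]
  · congr 1
    ext m
    rw [map_sum, map_nsmul, ← expand_apply r hr, coeff_expand]
    simp only [coeff_rescale, coeff_mk, ← Finset.sum_mul]
    by_cases hd : r ∣ m
    · rw [if_pos hd]
      obtain ⟨q, rfl⟩ := hd
      rw [Finset.sum_congr rfl fun i _ => show (ξ ^ i) ^ (r * q) = 1 by
        rw [← pow_mul, mul_comm, mul_assoc, pow_mul, hξ.pow_eq_one, one_pow], Nat.mul_div_cancel_left _ (Nat.pos_of_ne_zero hr)]
      rcases eq_or_ne q 0 with rfl | hq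
      · simp [Zeta.nPts]
      · rw [h q hq]
        simp
    · rw [if_neg hd, smul_zero]
      have hne : ξ ^ m ≠ 1 := fun h1 => hd ((hξ.pow_eq_one_iff_dvd m).1 h1)
      have h0 : ∑ i ∈ Finset.range r, (ξ ^ i) ^ m = 0 := by
        rw [Finset.sum_congr rfl fun i _ => show (ξ ^ i) ^ m = (ξ ^ m) ^ i by rw [← pow_mul, ← pow_mul, mul_comm],
          geom_sum_eq hne, ← pow_mul, mul_comm, pow_mul, hξ.pow_eq_one, one_pow, sub_self, zero_div]
      rw [h0, zero_mul]
  · have h0 : ∀ {Y : Scheme.{u}} {F : Type u} [Field F] (g : Y ⟶ Spec (CommRingCat.of F)),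
        coeff 0 (map (algebraMap ℚ ℂ) (Zeta.zetaFun g)) = 1 := fun g => by
      rw [coeff_map, coeff_zero_eq_constantCoeff_apply, constantCoeff_zetaFun, map_one]
    rw [← expand_apply r hr, ← coeff_zero_eq_constantCoeff_apply, coeff_expand, if_pos (dvd_zero r), Nat.zero_div, h0,
      map_prod, Finset.prod_eq_one fun i _ => ?_]
    rw [← coeff_zero_eq_constantCoeff_apply, coeff_rescale, pow_zero, one_mul, h0]

end ZetaFormalLib
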